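import Groth.Agent.S10858
import Groth.Agent.S9569
import Groth.Agent.PullbackMod.OpenLocus
import Groth.Agent.DCohMore.RelPerfTerms

/-!
# Locally split monomorphisms into finite locally free modules
-/

set_option autoImplicit false
set_option backward.isDefEq.respectTransparency false
set_option linter.style.haveILetI false
set_option maxHeartbeats 1000000

universe u

open CategoryTheory CategoryTheory.Limits AlgebraicGeometry TopologicalSpace Opposite
open Groth.Agent.PullbackMod Groth.Agent.DCohLib Groth.Agent.ParaFLib Groth.Agent.AmpleLib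
open scoped TensorProduct

noncomputable section

namespace Groth.Agent.LocSplitLib

theorem isSplitMono_of_iso {C D : Type*} [Category C] [Category D] {F G : C ⥤ D} (e : F ≅ G) {a b : C}
    (φ : a ⟶ b) (h : IsSplitMono (F.map φ)) : IsSplitMono (G.map φ) := by
  refine IsSplitMono.mk' ⟨e.inv.app b ≫ retraction (F.map φ) ≫ e.hom.app a, ?_⟩
  rw [← Category.assoc (G.map φ), e.inv.naturality φ, Category.assoc, IsSplitMono.id_assoc]
  exact e.inv_hom_id_app a

variable {X : Scheme.{u}}

/-- A split monomorphism after inverse image at a point gives a splitting of the stalk map. -/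
theorem split_of_pullback_mono {M N : X.Modules} (φ : M ⟶ N) (hM : CohB1.IsFT M) (hN : FlatMod.IsFinLocFree N)
    {T : Scheme.{u}} (g : T ⟶ X) (t : T)
    (h : ∀ {T' : Scheme.{u}} (h' : T' ⟶ T), t ∈ Set.range h' → Mono ((Scheme.Modules.pullback (h' ≫ g)).map φ)) :
    ∃ l', l' ∘ₗ stalkLin φ (g t) = LinearMap.id := by
  suffices H : ∀ (F : Scheme.{u}) (h : F ⟶ X) (x' : F) (_ : Mono ((Scheme.Modules.pullback h).map φ))
      (_ : IsField (F.presheaf.stalk x')), ∃ l', l' ∘ₗ stalkLin φ (h x') = LinearMap.id by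
    let k := T.fromSpecResidueField t
    let x' : ↥(Spec (T.residueField t)) := IsLocalRing.closedPoint _
    have hkt : k x' = t := Scheme.fromSpecResidueField_apply t x'
    have hK : IsField ((Spec (T.residueField t)).presheaf.stalk x') := by
      rw [show x' = genericPoint (Spec (T.residueField t)) from Subsingleton.elim _ _]
      exact Field.toIsField (Spec (T.residueField t)).functionField
    have hx : (k ≫ g) x' = g t := by rw [Scheme.Hom.comp_apply, hkt]
    exact hx ▸ H _ (k ≫ g) x' (h k ⟨x', hkt⟩) hK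
  intro F h x' hm hK
  letI := (h.stalkMap x').hom.toAlgebra
  let R := X.presheaf.stalk (h x')
  let K := F.presheaf.stalk x'
  haveI : IsLocalHom (algebraMap R K) := inferInstanceAs (IsLocalHom (h.stalkMap x').hom)
  have hinj := (injective_stalk_pullback_iff h φ x').1 ((mono_iff_stalk _).1 hm x')
  haveI := Groth.Agent.S10858.finite_stalk hM (h x')
  haveI := (free_finite_stalk_of_flf hN (h x')).1
  haveI := (free_finite_stalk_of_flf hN (h x')).2
  refine (IsLocalRing.split_injective_iff_lTensor_residueField_injective _).2 ?_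
  -- the residue field is an `R`-linear retract of `K`
  have hmax : ∀ a ∈ IsLocalRing.maximalIdeal R, algebraMap R K a = 0 := fun a ha => by
    letI := hK.toField
    by_contra h0
    exact ha (isUnit_of_map_unit (algebraMap R K) a (isUnit_iff_ne_zero.2 h0))
  let κ := IsLocalRing.ResidueField R
  let ι₀ : κ →+* K := Ideal.Quotient.lift (IsLocalRing.maximalIdeal R) (algebraMap R K) hmax
  letI : Algebra κ K := ι₀.toAlgebra
  haveI : IsScalarTower R κ K := IsScalarTower.of_algebraMap_eq fun _ => rfl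
  obtain ⟨p, hp⟩ := LinearMap.exists_leftInverse_of_injective (Algebra.linearMap κ K)
    (LinearMap.ker_eq_bot.2 ι₀.injective)
  let i : κ →ₗ[R] K := (Algebra.linearMap κ K).restrictScalars R
  let p' : K →ₗ[R] κ := p.restrictScalars R
  have hsq : ∀ a, (stalkLin φ (h x')).lTensor K (i.rTensor _ a) =
      i.rTensor _ ((stalkLin φ (h x')).lTensor κ a) := fun a => by
    induction a using TensorProduct.induction_on with
    | zero => simp
    | tmul x y =>
      show (stalkLin φ (h x')).lTensor K (i x ⊗ₜ y) = i.rTensor _ (x ⊗ₜ stalkLin φ (h x') y)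
      rw [LinearMap.lTensor_tmul, LinearMap.rTensor_tmul]
    | add p q hp hq => simp only [map_add, hp, hq]
  have hi : Function.Injective (i.rTensor (M.presheaf.stalk (h x'))) := by
    have : p'.rTensor (M.presheaf.stalk (h x')) ∘ₗ i.rTensor _ = LinearMap.id := by
      rw [← LinearMap.rTensor_comp, show p' ∘ₗ i = LinearMap.id from LinearMap.ext fun c => LinearMap.congr_fun hp c,
        LinearMap.rTensor_id]
    exact Function.HasLeftInverse.injective ⟨_, LinearMap.congr_fun this⟩
  intro a b hab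
  exact hi (hinj (by rw [hsq, hsq, hab]))

/-- If a monomorphism is split in some stalk with locally free cokernel there, it splits nearby. -/
theorem exists_nhd_isSplitMono {F V : X.Modules} (u : F ⟶ V) (hFt : CohB1.IsFT F) (hV : FlatMod.IsFinLocFree V)
    (hs : ∀ y, ∃ l', l' ∘ₗ stalkLin u y = LinearMap.id) (x : X) :
    ∃ U : X.Opens, x ∈ U ∧ IsSplitMono ((Scheme.Modules.pullback U.ι).map u) := by
  classical
  let Q := cokernel u
  let π : V ⟶ Q := cokernel.π u
  have hFP : CohB1.IsFP Q := Groth.Agent.S10858.isFP_coker hFt hV u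
  haveI := hFP
  haveI : Coh.IsQCoh Q := inferInstanceAs (SheafOfModules.IsQuasicoherent (R := X.ringCatSheaf) Q)
  have hsc : (ShortComplex.mk u π (cokernel.condition u)).Exact :=
    ShortComplex.exact_of_g_is_cokernel _ (cokernelIsCokernel u)
  haveI : Epi (ShortComplex.mk u π (cokernel.condition u)).g := inferInstanceAs (Epi (cokernel.π u))
  have hex := exact_stalkLin _ hsc x
  have hsurj := (epi_iff_stalk π).1 inferInstance x
  haveI := (free_finite_stalk_of_flf hV x).1
  haveI := (free_finite_stalk_of_flf hV x).2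
  haveI := Groth.Agent.S10858.flat_of_split hex hsurj (hs x)
  haveI : Module.Finite (X.presheaf.stalk x) (Q.presheaf.stalk x) := Module.Finite.of_surjective _ hsurj
  haveI := PullbackMod.finitePresentation_stalk_of_isFP (M := Q) hFP x
  haveI : Module.Free (X.presheaf.stalk x) (Q.presheaf.stalk x) := Module.free_of_flat_of_isLocalRing
  let bas := Module.finBasis (X.presheaf.stalk x) (Q.presheaf.stalk x)
  let n := Module.finrank (X.presheaf.stalk x) (Q.presheaf.stalk x)
  choose v hv using fun i : Fin n => hsurj (bas i)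
  choose W hxW t ht using fun i : Fin n => TopCat.Presheaf.exists_germ_eq V.presheaf (v i)
  let W₁ : X.Opens := ⟨⋂ i, (W i : Set X), isOpen_iInter_of_finite fun i => (W i).2⟩
  have hxW₁ : x ∈ W₁ := Set.mem_iInter.2 hxW
  have hle : ∀ i, W₁ ≤ W i := fun i y hy => Set.mem_iInter.1 hy i
  let R := Scheme.Modules.restrictFunctor W₁.ι
  let z : ↑W₁ := ⟨x, hxW₁⟩
  have hle' : ∀ i, W₁.ι ''ᵁ ⊤ ≤ W i := fun i => by
    rw [Scheme.Opens.ι_image_top]; exact hle i
  let τ : Fin n → Γ(R.obj V, ⊤) := fun i => V.presheaf.map (homOfLE (hle' i)).op (t i)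
  let σ : FlatMod.freeMod (↑W₁) n ⟶ R.obj V := Sigma.desc fun i => DCohLib.secHom (R.obj V) (τ i)
  let φ : FlatMod.freeMod (↑W₁) n ⟶ R.obj Q := σ ≫ R.map π
  let e : (R.obj Q).presheaf.stalk z ≃+ Q.presheaf.stalk (W₁.ι z) :=
    ((Scheme.Modules.restrictStalkNatIso W₁.ι z).app Q).addCommGroupIsoToAddEquiv
  let bas' : Module.Basis (Fin n) (X.presheaf.stalk (W₁.ι z)) (Q.presheaf.stalk (W₁.ι z)) := bas
  let ρ := (asIso (W₁.ι.stalkMap z)).commRingCatIsoToRingEquiv
  have he : ∀ c m, e (c • m) = ρ.symm c • e m := restrictStalk_smul W₁.ι Q z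
  let ε : Fin n → (FlatMod.freeMod (↑W₁) n).presheaf.stalk z := fun i =>
    (FlatMod.freeMod (↑W₁) n).presheaf.germ ⊤ z (Opens.mem_top z)
      (sec (Sigma.ι (fun _ : Fin n => Coh.structureModule (↑W₁ : Scheme.{u})) i))
  have hε : ∀ i, e (stalkLin φ z (ε i)) = bas' i := by
    intro i
    have h1 : stalkLin φ z (ε i) = (R.obj Q).presheaf.germ ⊤ z (Opens.mem_top z) ((R.map π).app ⊤ (τ i)) := by
      refine (stalkLin_germ φ z (Opens.mem_top z) _).trans (congrArg _ ?_)
      show (Sigma.ι (fun _ : Fin n => Coh.structureModule (↑W₁ : Scheme.{u})) i ≫ σ ≫ R.map π).app ⊤ (1 : Γ((↑W₁ : Scheme.{u}), ⊤)) = _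
      rw [← Category.assoc, Sigma.ι_desc]
      exact congrArg ((R.map π).app ⊤) (sec_secHom (τ i))
    rw [h1]
    refine (ConcreteCategory.congr_hom (Scheme.Modules.germ_restrictStalkNatIso_hom_app W₁.ι z Q (Opens.mem_top z)) _).trans ?_
    show Q.presheaf.germ (W₁.ι ''ᵁ ⊤) x _ (π.app (W₁.ι ''ᵁ ⊤) (V.presheaf.map (homOfLE (hle' i)).op (t i))) = _
    rw [← stalkLin_germ π x, TopCat.Presheaf.germ_res_apply, ht, hv]
    rfl
  have hbij : Function.Bijective (stalkLin φ z) := by
    have hspan := Groth.Agent.S9569.span_basis (↑W₁ : Scheme.{u}) n z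
    have hsum : ∀ c : Fin n → (↑W₁ : Scheme.{u}).presheaf.stalk z,
        e (stalkLin φ z (∑ i, c i • ε i)) = ∑ i, ρ.symm (c i) • bas' i := fun c => by
      rw [map_sum, map_sum]
      exact Finset.sum_congr rfl fun i _ => by rw [map_smul, he, hε]
    constructor
    · rw [injective_iff_map_eq_zero]
      intro w hw
      obtain ⟨c, rfl⟩ := (Submodule.mem_span_range_iff_exists_fun _).1
        (show w ∈ Submodule.span _ (Set.range ε) from hspan ▸ Submodule.mem_top)
      have h0 := hsum c
      rw [hw, map_zero] at h0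
      have hc := Fintype.linearIndependent_iff.1 bas'.linearIndependent _ h0.symm
      refine Finset.sum_eq_zero fun i _ => ?_
      rw [show c i = 0 from ρ.symm.injective (by rw [hc i, map_zero]), zero_smul]
    · intro q
      refine ⟨∑ i, ρ (bas'.repr (e q) i) • ε i, e.injective ?_⟩
      rw [hsum]
      simp only [RingEquiv.symm_apply_apply]
      exact bas'.sum_repr (e q)
  haveI := (isQCoh_and_isFP_of_isFinLocFree _ (isFinLocFree_freeMod (Y := (↑W₁ : Scheme.{u})) n)).1
  haveI : Coh.IsQCoh (R.obj Q) := inferInstance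
  have hopen := isOpen_stalk_bijective φ (isFT_of_flf (isFinLocFree_freeMod (Y := (↑W₁ : Scheme.{u})) n))
    (DCohMore.isFP_restrict W₁.ι hFP)
  let W₂ : (↑W₁ : Scheme.{u}).Opens := ⟨_, hopen⟩
  let R₂ := Scheme.Modules.restrictFunctor W₂.ι
  haveI : IsIso (R₂.map φ) := (isIso_iff_stalk _).2 fun w => by
    have hb : Function.Bijective (stalkLin φ (W₂.ι w)) := w.2
    have hnat := (Scheme.Modules.restrictStalkNatIso W₂.ι w).hom.naturality φ
    have h1 : Function.Bijective ⇑(ConcreteCategory.hom ((Scheme.Modules.restrictStalkNatIso W₂.ι w).hom.app (R.obj Q))) :=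
      ConcreteCategory.bijective_of_isIso _
    have h2 : Function.Bijective ⇑(ConcreteCategory.hom ((Scheme.Modules.restrictStalkNatIso W₂.ι w).hom.app (FlatMod.freeMod (↑W₁) n))) :=
      ConcreteCategory.bijective_of_isIso _
    refine (Function.Bijective.of_comp_iff' h1 _).1 ?_
    have : (⇑(ConcreteCategory.hom ((Scheme.Modules.restrictStalkNatIso W₂.ι w).hom.app (R.obj Q))) ∘ ⇑(stalkLin (R₂.map φ) w)) =
        ⇑(stalkLin φ (W₂.ι w)) ∘ ⇑(ConcreteCategory.hom ((Scheme.Modules.restrictStalkNatIso W₂.ι w).hom.app (FlatMod.freeMod (↑W₁) n))) :=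
      funext fun m => ConcreteCategory.congr_hom hnat m
    rw [this]
    exact hb.comp h2
  -- the splitting
  let G := R ⋙ R₂
  haveI : PreservesColimitsOfSize.{u, u} R := (Scheme.Modules.restrictAdjunction W₁.ι).leftAdjoint_preservesColimits
  haveI : PreservesColimitsOfSize.{u, u} R₂ := (Scheme.Modules.restrictAdjunction W₂.ι).leftAdjoint_preservesColimits
  haveI : PreservesColimitsOfSize.{0, 0} G := preservesColimitsOfSize_shrink.{0, u, 0, u} _
  haveI : Mono u := (mono_iff_stalk u).2 fun y => by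
    obtain ⟨l', hl⟩ := hs y
    exact Function.HasLeftInverse.injective ⟨l', LinearMap.congr_fun hl⟩
  haveI : Mono (G.map u) := inferInstanceAs (Mono (R₂.map (R.map u)))
  let s : R₂.obj (R.obj Q) ⟶ R₂.obj (R.obj V) := inv (R₂.map φ) ≫ R₂.map σ
  have hs' : s ≫ G.map π = 𝟙 _ := by
    show (inv (R₂.map φ) ≫ R₂.map σ) ≫ R₂.map (R.map π) = 𝟙 _
    rw [Category.assoc, ← Functor.map_comp, IsIso.inv_hom_id]
  let s' : G.obj Q ⟶ G.obj V := s
  let d : G.obj V ⟶ G.obj V := 𝟙 (G.obj V) - G.map π ≫ s'
  have hd : d ≫ G.map π = 0 := by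
    rw [Preadditive.sub_comp, Category.assoc]
    erw [hs', Category.id_comp]
    exact sub_self _
  have hd' : d ≫ cokernel.π (G.map u) = 0 := by
    rw [← cancel_mono (cokernelComparison u G), Category.assoc, π_comp_cokernelComparison, zero_comp]
    exact hd
  let r := Abelian.monoLift (G.map u) d hd'
  have hru : G.map u ≫ r = 𝟙 _ := by
    rw [← cancel_mono (G.map u), Category.assoc, Abelian.monoLift_comp, Category.id_comp,
      Preadditive.comp_sub, Category.comp_id, ← Category.assoc, ← G.map_comp, cokernel.condition, G.map_zero,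
      zero_comp, sub_zero]
  have hsplit : IsSplitMono (G.map u) := IsSplitMono.mk' ⟨r, hru⟩
  let U : X.Opens := W₁.ι ''ᵁ W₂
  let c := W₂.ι ≫ W₁.ι
  have hr : Set.range c = Set.range U.ι := by
    rw [Scheme.Opens.range_ι, Scheme.Hom.comp_base, TopCat.coe_comp, Set.range_comp, Scheme.Opens.range_ι]
    rfl
  let E := IsOpenImmersion.isoOfRangeEq c U.ι hr
  refine ⟨U, ⟨z, hbij, rfl⟩, ?_⟩
  let Φ : G ⋙ Scheme.Modules.pullback E.inv ≅ Scheme.Modules.pullback U.ι :=
    Functor.isoWhiskerRight ((Scheme.Modules.restrictFunctorComp W₂.ι W₁.ι).symm ≪≫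
      Scheme.Modules.restrictFunctorIsoPullback c) _ ≪≫ Scheme.Modules.pullbackComp E.inv c ≪≫
        Scheme.Modules.pullbackCongr (IsOpenImmersion.isoOfRangeEq_inv_fac c U.ι hr)
  haveI := hsplit
  exact isSplitMono_of_iso Φ u (inferInstanceAs (IsSplitMono ((Scheme.Modules.pullback E.inv).map (G.map u))))

end Groth.Agent.LocSplitLib
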